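import Cfsg.Agent.KFacts.MulDef
import Cfsg.Agent.OddHalf.D9.M12Glue
import Cfsg.Agent.OddHalf.Table.OutRu
import Mathlib
import Cfsg.Agent.OddHalf.D9.Ru.XR
import Cfsg.Agent.OddHalf.D9.Ru.XCover
import Cfsg.Agent.KFacts.RuDbl.Main

-- merged: Cfsg.Agent.OddHalf.D9.Ru.Inn
section

/-!
# Perfect double covers: centre and automorphisms; the case of the Rudvalis group

* `cen_iff`: the centre of a perfect double cover `L` of a group with trivial centre is `{1, c}`;
* `inn_of`: if all automorphisms of `X` are inner, so are those of `L`;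
* `exists_dbl`: a perfect group `L` with centre of order 2 and `L / Z(L)` the Rudvalis group is a perfect double cover
  of `RuOrder.H`;
* `center_H`, `cenRu`, `innRu`: the case of the Rudvalis group.
-/

set_option autoImplicit false

namespace Cfsg.Agent.OddHalf.D9.Ru.Inn

open Subgroup Cfsg Cfsg.Agent.KFacts.MulTwo Cfsg.Agent.KFacts.MulDef
open scoped commutatorElement

section gen

variable {L X : Type*} [Group L] [Group X] {π : L →* X} {c : L}

theorem pc (hd : Dbl π c) : π c = 1 := (hd.ker c).2 (Or.inr rfl)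

theorem eq_or (hd : Dbl π c) {x y : L} (h : π x = π y) : x = y ∨ x = c * y := by
  have h1 : π (x * y⁻¹) = 1 := by rw [map_mul, map_inv, h, mul_inv_cancel]
  rcases (hd.ker _).1 h1 with h2 | h2
  · left; exact mul_inv_eq_one.1 h2
  · right; rw [← h2, inv_mul_cancel_right]

/-- elements commuting modulo `{1, c}` with everything commute with everything -/
theorem comm_of_bar (hd : Dbl π c) {x : L} (h : ∀ y, π x * π y = π y * π x) (y : L) : x * y = y * x := by
  let N : Subgroup L := centralizer {x}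
  have hN : N = ⊤ := by
    rw [eq_top_iff, ← hd.perf, _root_.commutator_def, Subgroup.commutator_le]
    intro a _ b _
    have key : ∀ y, ∃ f : L, (∀ w, f * w = w * f) ∧ x * y * x⁻¹ = f * y := by
      intro y
      have h1 : π (x * y * x⁻¹) = π y := by
        rw [map_mul, map_mul, map_inv, h, mul_inv_cancel_right]
      rcases eq_or hd h1 with h1 | h1
      · exact ⟨1, fun y => by rw [one_mul, mul_one], by rw [h1, one_mul]⟩
      · exact ⟨c, hd.cen, h1⟩
    obtain ⟨f, hf, hf'⟩ := key a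
    obtain ⟨g, hg, hg'⟩ := key b
    rw [mem_centralizer_singleton_iff]
    have h2 : x * ⁅a, b⁆ * x⁻¹ = ⁅a, b⁆ := by
      have e : x * ⁅a, b⁆ * x⁻¹ = ⁅x * a * x⁻¹, x * b * x⁻¹⁆ := by
        rw [commutatorElement_def, commutatorElement_def]; group
      rw [e, hf', hg', commutatorElement_def, commutatorElement_def]
      calc f * a * (g * b) * (f * a)⁻¹ * (g * b)⁻¹ = f * (a * g) * b * a⁻¹ * f⁻¹ * b⁻¹ * g⁻¹ := by group
        _ = f * (g * a) * b * a⁻¹ * f⁻¹ * b⁻¹ * g⁻¹ := by rw [hg a]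
        _ = (f * (g * a * b * a⁻¹)) * f⁻¹ * b⁻¹ * g⁻¹ := by group
        _ = ((g * a * b * a⁻¹) * f) * f⁻¹ * b⁻¹ * g⁻¹ := by rw [hf]
        _ = (g * (a * b * a⁻¹ * b⁻¹)) * g⁻¹ := by group
        _ = ((a * b * a⁻¹ * b⁻¹) * g) * g⁻¹ := by rw [hg]
        _ = _ := by group
    exact (mul_inv_eq_iff_eq_mul.1 h2).symm
  have h3 : y ∈ N := by rw [hN]; trivial
  exact (mem_centralizer_singleton_iff.1 h3).symm

theorem cen_iff (hd : Dbl π c) (hX : ∀ a : X, (∀ b, a * b = b * a) → a = 1) (x : L) :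
    (∀ y, x * y = y * x) ↔ x = 1 ∨ x = c := by
  constructor
  · intro h
    refine (hd.ker x).1 (hX _ ?_)
    intro b
    obtain ⟨y, rfl⟩ := hd.surj b
    rw [← map_mul, h, map_mul]
  · rintro (rfl | rfl)
    · intro y; rw [one_mul, mul_one]
    · exact hd.cen

theorem exists_bar (hd : Dbl π c) (α : MulAut L) (hα : α c = c) : ∃ β : MulAut X, ∀ x, β (π x) = π (α x) := by
  let f : L →* X := π.comp α.toMonoidHom
  have hf : Function.Surjective f := hd.surj.comp α.surjective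
  have hk : π.ker = f.ker := by
    ext x
    rw [MonoidHom.mem_ker, MonoidHom.mem_ker]
    show π x = 1 ↔ π (α x) = 1
    rw [hd.ker, hd.ker]
    constructor
    · rintro (h | h)
      · left; rw [h, map_one]
      · right; rw [h, hα]
    · rintro (h | h)
      · left; exact (map_eq_one_iff α α.injective).1 h
      · right
        apply α.injective
        rw [h, hα]
  refine ⟨(QuotientGroup.quotientKerEquivOfSurjective π hd.surj).symm.trans
    ((QuotientGroup.quotientMulEquivOfEq hk).trans (QuotientGroup.quotientKerEquivOfSurjective f hf)), ?_⟩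
  intro x
  have h1 : (QuotientGroup.quotientKerEquivOfSurjective π hd.surj).symm (π x) = QuotientGroup.mk x := by
    rw [MulEquiv.symm_apply_eq]; rfl
  show (QuotientGroup.quotientKerEquivOfSurjective f hf) ((QuotientGroup.quotientMulEquivOfEq hk)
    ((QuotientGroup.quotientKerEquivOfSurjective π hd.surj).symm (π x))) = _
  rw [h1]
  rfl

theorem eq_one_of_bar (hd : Dbl π c) (γ : MulAut L) (h : ∀ x, π (γ x) = π x) : γ = 1 := by
  let N : Subgroup L :=
    { carrier := {x | γ x = x}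
      one_mem' := map_one γ
      mul_mem' := fun {a b} ha hb => by
        show γ (a * b) = a * b
        rw [map_mul, show γ a = a from ha, show γ b = b from hb]
      inv_mem' := fun {a} ha => by
        show γ a⁻¹ = a⁻¹
        rw [map_inv, show γ a = a from ha] }
  have hN : N = ⊤ := by
    rw [eq_top_iff, ← hd.perf, _root_.commutator_def, Subgroup.commutator_le]
    intro a _ b _
    have key : ∀ x, ∃ f : L, (∀ y, f * y = y * f) ∧ γ x = f * x := by
      intro x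
      rcases eq_or hd (h x) with h1 | h1
      · exact ⟨1, fun y => by rw [one_mul, mul_one], by rw [h1, one_mul]⟩
      · exact ⟨c, hd.cen, h1⟩
    obtain ⟨f, hf, hf'⟩ := key a
    obtain ⟨g, hg, hg'⟩ := key b
    show γ ⁅a, b⁆ = ⁅a, b⁆
    rw [map_commutatorElement, hf', hg', commutatorElement_def, commutatorElement_def]
    calc f * a * (g * b) * (f * a)⁻¹ * (g * b)⁻¹ = f * (a * g) * b * a⁻¹ * f⁻¹ * b⁻¹ * g⁻¹ := by group
      _ = f * (g * a) * b * a⁻¹ * f⁻¹ * b⁻¹ * g⁻¹ := by rw [hg a]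
      _ = (f * (g * a * b * a⁻¹)) * f⁻¹ * b⁻¹ * g⁻¹ := by group
      _ = ((g * a * b * a⁻¹) * f) * f⁻¹ * b⁻¹ * g⁻¹ := by rw [hf]
      _ = (g * (a * b * a⁻¹ * b⁻¹)) * g⁻¹ := by group
      _ = ((a * b * a⁻¹ * b⁻¹) * g) * g⁻¹ := by rw [hg]
      _ = _ := by group
  ext x
  have : x ∈ N := by rw [hN]; trivial
  exact this

/-- an automorphism inducing an inner automorphism is inner -/
theorem inner_of_bar (hd : Dbl π c) (α : MulAut L) (k : L) (h : ∀ x, π (α x) = π k * π x * (π k)⁻¹) :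
    α = MulAut.conj k := by
  have h1 : (MulAut.conj k)⁻¹ * α = 1 := by
    apply eq_one_of_bar hd
    intro x
    have e : ((MulAut.conj k)⁻¹ * α) x = k⁻¹ * α x * k := by
      rw [← map_inv, MulAut.mul_apply, MulAut.conj_apply, inv_inv]
    rw [e, map_mul, map_mul, map_inv, h]
    group
  exact (inv_mul_eq_one.1 h1).symm

/-- automorphisms fix the generator of the centre -/
theorem map_c (hd : Dbl π c) (hX : ∀ a : X, (∀ b, a * b = b * a) → a = 1) (α : MulAut L) : α c = c := by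
  have h1 : ∀ y, α c * y = y * α c := by
    intro y
    obtain ⟨x, rfl⟩ := α.surjective y
    rw [← map_mul, hd.cen, map_mul]
  rcases (cen_iff hd hX _).1 h1 with h | h
  · exact absurd ((map_eq_one_iff α α.injective).1 h) hd.ne
  · exact h

/-- **if all automorphisms of `X` are inner, so are those of its perfect double covers** -/
theorem inn_of (hd : Dbl π c) (hX : ∀ a : X, (∀ b, a * b = b * a) → a = 1)
    (hA : ∀ β : MulAut X, ∃ g, β = MulAut.conj g) (α : MulAut L) : ∃ k, α = MulAut.conj k := by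
  obtain ⟨β, hβ⟩ := exists_bar hd α (map_c hd hX α)
  obtain ⟨g, rfl⟩ := hA β
  obtain ⟨k, rfl⟩ := hd.surj g
  refine ⟨k, inner_of_bar hd α k fun x => ?_⟩
  rw [← hβ, MulAut.conj_apply]

theorem mem_center_iff_of_card (h2 : Nat.card ↥(center L) = 2)
    (hc : c ∈ center L) (hc1 : c ≠ 1) (x : L) : x ∈ center L ↔ x = 1 ∨ x = c := by
  constructor
  · intro hx
    by_cases hx1 : x = 1
    · exact Or.inl hx1
    · right
      obtain ⟨z, hz1, hz2⟩ := (Nat.card_eq_two_iff' (1 : center L)).1 h2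
      have e1 := hz2 ⟨x, hx⟩ (fun h => hx1 (congrArg Subtype.val h))
      have e2 := hz2 ⟨c, hc⟩ (fun h => hc1 (congrArg Subtype.val h))
      exact congrArg Subtype.val (e1.trans e2.symm)
  · rintro (rfl | rfl)
    · exact one_mem _
    · exact hc

/-- the double cover of a perfect group with centre of order 2 -/
theorem dbl_of_center (hp : commutator L = ⊤) (h2 : Nat.card ↥(center L) = 2) (e : L ⧸ center L ≃* X)
    (hc : c ∈ center L) (hc1 : c ≠ 1) : ∃ π : L →* X, Dbl π c := by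
  have hm := mem_center_iff_of_card h2 hc hc1
  refine ⟨e.toMonoidHom.comp (QuotientGroup.mk' (center L)), ⟨⟨hc1, ?_, ?_, hp⟩,
    e.surjective.comp (QuotientGroup.mk'_surjective _), ?_⟩⟩
  · rcases (hm (c * c)).1 (mul_mem hc hc) with h | h
    · exact h
    · exact absurd (mul_eq_left.1 h) hc1
  · intro x
    exact (mem_center_iff.1 hc x).symm
  · intro x
    show e (x : L ⧸ center L) = 1 ↔ _
    rw [e.map_eq_one_iff, QuotientGroup.eq_one_iff, hm]

end gen

/-! ### The Rudvalis group -/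

open Cfsg.Agent.SporadicB Cfsg.Agent.OddHalf.Table

theorem center_H (a : RuOrder.H) (h : ∀ b, a * b = b * a) : a = 1 := by
  have := RuSimple.isSimpleGroup_H
  have h1 : a ∈ center RuOrder.H := mem_center_iff.2 fun b => (h b).symm
  rcases (center RuOrder.H).normal_of_characteristic.eq_bot_or_eq_top with h2 | h2
  · rw [h2, mem_bot] at h1
    exact h1
  · exfalso
    have key : ∀ b : RuOrder.H, b ∈ center RuOrder.H := fun b => by rw [h2]; trivial
    have h3 : OutRu.f * OutRu.x * OutRu.f⁻¹ = OutRu.x := by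
      rw [mul_inv_eq_iff_eq_mul]
      exact mem_center_iff.1 (key OutRu.x) OutRu.f
    have h4 : OutRu.x ^ 4 = OutRu.x ^ 1 := by rw [← OutRu.conj_fx, h3, pow_one]
    have h5 := (pow_eq_pow_iff_modEq.1 h4)
    rw [OutRu.orderOf_x] at h5
    exact absurd h5 (by decide)

variable {L : Type*} [Group L] {π : L →* RuOrder.H} {c : L}

theorem cenRu (hd : Dbl π c) (x : L) : (∀ y, x * y = y * x) ↔ x = 1 ∨ x = c := cen_iff hd center_H x

theorem innRu (hd : Dbl π c) (φ : MulAut L) : φ ∈ M12Glue.Inn L := by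
  obtain ⟨k, rfl⟩ := inn_of hd center_H Cfsg.Agent.OddHalf.Table.OutRu.inner φ
  exact ⟨k, rfl⟩

/-- a perfect group with centre of order 2 and central quotient the Rudvalis group -/
theorem exists_dbl (hp : commutator L = ⊤) (h2 : Nat.card ↥(center L) = 2)
    (hR : Spor.IsoRu (L ⧸ center L)) (hc : c ∈ center L) (hc1 : c ≠ 1) : ∃ π : L →* RuOrder.H, Dbl π c := by
  obtain ⟨e⟩ := hR
  exact dbl_of_center hp h2 (e.trans RuLat.Main.equiv) hc hc1

end Cfsg.Agent.OddHalf.D9.Ru.Inn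

end

-- merged: Cfsg.Agent.OddHalf.D9.Ru.Label
section

/-!
# D9: the perfect core and labels

`PC H`: the largest perfect subgroup of `H`. A *label* is a property `ℓ` of elements of groups invariant under
isomorphisms; `Lab ℓ P x`: the element `x ∈ P` has the property in the group `P`.
-/

set_option autoImplicit false

namespace Cfsg.Agent.OddHalf.D9.Ru.Label

open Subgroup

universe u

variable {G : Type u} [Group G]

/-- the largest perfect subgroup of `H` -/
def PC (H : Subgroup G) : Subgroup G := sSup {Y : Subgroup G | Y ≤ H ∧ ⁅Y, Y⁆ = Y}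

theorem PC_le (H : Subgroup G) : PC H ≤ H := sSup_le fun _ h => h.1

theorem le_PC {H Y : Subgroup G} (h : Y ≤ H) (hY : ⁅Y, Y⁆ = Y) : Y ≤ PC H := le_sSup ⟨h, hY⟩

theorem PC_perf (H : Subgroup G) : ⁅PC H, PC H⁆ = PC H := by
  apply le_antisymm
  · rw [commutator_le]
    intro a ha b hb
    rw [commutatorElement_def]
    exact (PC H).mul_mem ((PC H).mul_mem ((PC H).mul_mem ha hb) ((PC H).inv_mem ha)) ((PC H).inv_mem hb)
  · apply sSup_le
    rintro Y ⟨hY, hp⟩
    have := le_PC hY hp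
    calc Y = ⁅Y, Y⁆ := hp.symm
      _ ≤ ⁅PC H, PC H⁆ := commutator_mono this this

theorem PC_mono {H J : Subgroup G} (h : H ≤ J) : PC H ≤ PC J :=
  le_PC ((PC_le H).trans h) (PC_perf H)

theorem perf_map' {X Y : Type u} [Group X] [Group Y] {A : Subgroup X} (h : ⁅A, A⁆ = A) (f : X →* Y) :
    ⁅A.map f, A.map f⁆ = A.map f := by
  rw [← Subgroup.map_commutator, h]

/-- the core of a subgroup of `K`, seen in `G` -/
theorem PC_map_subtype {K : Subgroup G} (H : Subgroup K) : (PC H).map K.subtype = PC (H.map K.subtype) := by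
  apply le_antisymm
  · exact le_PC (map_mono (PC_le H)) (perf_map' (PC_perf H) _)
  · have h1 : PC (H.map K.subtype) ≤ K := (PC_le _).trans (map_subtype_le H)
    have h2 : ((PC (H.map K.subtype)).subgroupOf K).map K.subtype = PC (H.map K.subtype) := by
      rw [subgroupOf_map_subtype, inf_eq_left.mpr h1]
    rw [← h2]
    apply map_mono
    apply le_PC
    · intro x hx
      obtain ⟨y, hy, hyx⟩ := PC_le _ hx
      have : y = x := Subtype.ext hyx
      rwa [← this]
    · apply map_injective K.subtype_injective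
      rw [Subgroup.map_commutator, h2, PC_perf]

theorem PC_map_conj (H : Subgroup G) (g : G) :
    (PC H).map (MulAut.conj g).toMonoidHom = PC (H.map (MulAut.conj g).toMonoidHom) := by
  apply le_antisymm
  · exact le_PC (map_mono (PC_le H)) (perf_map' (PC_perf H) _)
  · have h1 : ∀ (A : Subgroup G) (a : G), (A.map (MulAut.conj a).toMonoidHom).map (MulAut.conj a⁻¹).toMonoidHom = A := by
      intro A a
      rw [Subgroup.map_map]
      have : (MulAut.conj a⁻¹).toMonoidHom.comp (MulAut.conj a).toMonoidHom = MonoidHom.id G := by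
        ext x
        show a⁻¹ * (a * x * a⁻¹) * a⁻¹⁻¹ = x
        group
      rw [this, Subgroup.map_id]
    have h2 : (PC (H.map (MulAut.conj g).toMonoidHom)).map (MulAut.conj g⁻¹).toMonoidHom ≤ PC H := by
      have h3 : (PC (H.map (MulAut.conj g).toMonoidHom)).map (MulAut.conj g⁻¹).toMonoidHom ≤
          PC ((H.map (MulAut.conj g).toMonoidHom).map (MulAut.conj g⁻¹).toMonoidHom) :=
        le_PC (map_mono (PC_le _)) (perf_map' (PC_perf _) _)
      rwa [h1] at h3
    have h4 := map_mono (f := (MulAut.conj g).toMonoidHom) h2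
    have h5 := h1 (PC (H.map (MulAut.conj g).toMonoidHom)) g⁻¹
    rw [inv_inv] at h5
    rwa [h5] at h4

/-- a property of elements of groups -/
abbrev Lbl : Type (u + 1) := ∀ (P : Type u) [Group P], P → Prop

/-- invariant under isomorphisms -/
def IsoInv (ℓ : Lbl.{u}) : Prop :=
  ∀ (P Q : Type u) [Group P] [Group Q] (e : P ≃* Q) (x : P), ℓ P x → ℓ Q (e x)

/-- `x` has the label in the group `P` -/
def Lab (ℓ : Lbl.{u}) (P : Subgroup G) (x : G) : Prop := ∃ h : x ∈ P, ℓ ↥P ⟨x, h⟩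

variable {ℓ : Lbl.{u}}

theorem Lab.map (hℓ : IsoInv ℓ) {X : Type u} [Group X] {P : Subgroup G} {x : G} (h : Lab ℓ P x) (f : G →* X)
    (hf : Function.Injective f) : Lab ℓ (P.map f) (f x) := by
  obtain ⟨hx, h⟩ := h
  refine ⟨mem_map_of_mem f hx, ?_⟩
  have := hℓ _ _ (P.equivMapOfInjective f hf) ⟨x, hx⟩ h
  have e : (P.equivMapOfInjective f hf) ⟨x, hx⟩ = ⟨f x, mem_map_of_mem f hx⟩ :=
    Subtype.ext (coe_equivMapOfInjective_apply P f hf ⟨x, hx⟩)
  rwa [e] at this

theorem Lab.of_map (hℓ : IsoInv ℓ) {X : Type u} [Group X] {P : Subgroup G} {x : G} (f : G →* X)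
    (hf : Function.Injective f) (h : Lab ℓ (P.map f) (f x)) : Lab ℓ P x := by
  obtain ⟨hx, h⟩ := h
  have hx' : x ∈ P := by
    obtain ⟨y, hy, hyx⟩ := hx
    rwa [← hf hyx]
  refine ⟨hx', ?_⟩
  have := hℓ _ _ (P.equivMapOfInjective f hf).symm ⟨f x, hx⟩ h
  have e : (P.equivMapOfInjective f hf).symm ⟨f x, hx⟩ = ⟨x, hx'⟩ := by
    rw [MulEquiv.symm_apply_eq]
    exact Subtype.ext (coe_equivMapOfInjective_apply P f hf ⟨x, hx'⟩).symm
  rwa [e] at this

theorem lab_map_iff (hℓ : IsoInv ℓ) {X : Type u} [Group X] {P : Subgroup G} {x : G} (f : G →* X)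
    (hf : Function.Injective f) : Lab ℓ (P.map f) (f x) ↔ Lab ℓ P x :=
  ⟨Lab.of_map hℓ f hf, fun h => h.map hℓ f hf⟩

end Cfsg.Agent.OddHalf.D9.Ru.Label

end

-- merged: Cfsg.Agent.OddHalf.D9.Ru.Kill
section

/-!
# D9, row `2.Ru`: the kill

`K = 2.Ru` standard with `C(K)` cyclic (`M12Glue.Amb`), all automorphisms of `K` inner, so that `C(z) = K C(K)`.
Every conjugate `e` of `z` in `C(z) - {z}` lies in `K` (SWAP; the conjugates `e = v r`, `v² = z = r²` are excluded by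
the square roots of `z` centralising the perfect core), and its label is `ez` (SWAP again): if `x ≠ y` are commuting
conjugates of `z` then `xy` is not conjugate to `z`, against the fact `pf`.
-/

set_option autoImplicit false

namespace Cfsg.Agent.OddHalf.D9.Ru.Kill

open Subgroup Cfsg.Agent.OddHalf.D9.ExTrick Cfsg.Agent.OddHalf.D9.M12Glue Cfsg.Agent.OddHalf.D9.Ru.Label

universe u

/-- the perfect core of the centraliser of `f` -/
abbrev PCen {L : Type u} [Group L] (f : L) : Subgroup L := PC (centralizer {f})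

/-- The facts on `L = 2.Ru`, centre `{1, c}`, for the label `ℓ`. -/
structure KFacts (ℓ : Lbl.{u}) (L : Type u) [Group L] (c : L) : Prop where
  cc : c * c = 1
  c1 : c ≠ 1
  cen : ∀ x : L, (∀ y, x * y = y * x) ↔ x = 1 ∨ x = c
  /-- every automorphism is inner -/
  inn : ∀ φ : MulAut L, φ ∈ Inn L
  /-- `c` lies in the perfect core of the centraliser of every involution -/
  mem : ∀ f : L, InvL c f → c ∈ PCen f
  /-- the label is `f` or `fc`, exactly one of them, and not `c` -/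
  lab_or : ∀ f : L, InvL c f → Lab ℓ (PCen f) f ∨ Lab ℓ (PCen f) (f * c)
  lab_not : ∀ f : L, InvL c f → Lab ℓ (PCen f) f → ¬ Lab ℓ (PCen f) (f * c)
  lab_c : ∀ f : L, InvL c f → ¬ Lab ℓ (PCen f) c
  /-- the involutions `f` with label `fc` are conjugate -/
  conj : ∀ f w : L, InvL c f → InvL c w → Lab ℓ (PCen f) (f * c) → Lab ℓ (PCen w) (w * c) → ∃ k, k * f * k⁻¹ = w
  pf : ∃ x y : L, InvL c x ∧ InvL c y ∧ InvL c (x * y) ∧ x * y = y * x ∧ x ≠ y ∧ Lab ℓ (PCen x) (x * c) ∧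
    Lab ℓ (PCen y) (y * c) ∧ Lab ℓ (PCen (x * y)) (x * y * c)
  /-- the square roots of elements centralising the perfect core of `C(v)`, `v² = c` -/
  sq : ∀ v k : L, v * v = c → (∀ y ∈ PCen v, k * y = y * k) → k * k = 1 ∨ k * k = c

variable {G : Type u} [Group G] {z : G} {K : Subgroup G} {ℓ : Lbl.{u}}

/-- the perfect core of `C(z) ∩ C(e)` -/
abbrev P2 (z e : G) : Subgroup G := PC (centralizer {z} ⊓ centralizer {e})

theorem P2_conj (z e g : G) : (P2 z e).map (MulAut.conj g).toMonoidHom = P2 (g * z * g⁻¹) (g * e * g⁻¹) := by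
  rw [PC_map_conj]
  congr 1
  ext x
  rw [mem_map_equiv, mem_inf, mem_inf, mem_centralizer_singleton_iff, mem_centralizer_singleton_iff,
    mem_centralizer_singleton_iff, mem_centralizer_singleton_iff]
  have e1 : (MulAut.conj g).symm x = g⁻¹ * x * g := rfl
  rw [e1]
  have key : ∀ w : G, g⁻¹ * x * g * w = w * (g⁻¹ * x * g) ↔ x * (g * w * g⁻¹) = g * w * g⁻¹ * x := by
    intro w
    constructor
    · intro h1
      calc x * (g * w * g⁻¹) = g * (g⁻¹ * x * g * w) * g⁻¹ := by group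
        _ = g * (w * (g⁻¹ * x * g)) * g⁻¹ := by rw [h1]
        _ = g * w * g⁻¹ * x := by group
    · intro h1
      calc g⁻¹ * x * g * w = g⁻¹ * (x * (g * w * g⁻¹)) * g := by group
        _ = g⁻¹ * (g * w * g⁻¹ * x) * g := by rw [h1]
        _ = w * (g⁻¹ * x * g) := by group
  rw [key, key]

/-- an element of `P2 z e` commutes with `z` -/
theorem P2_z {z e y : G} (h : y ∈ P2 z e) : y * z = z * y :=
  mem_centralizer_singleton_iff.mp (mem_inf.mp (PC_le _ h)).1

theorem P2_e {z e y : G} (h : y ∈ P2 z e) : y * e = e * y :=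
  mem_centralizer_singleton_iff.mp (mem_inf.mp (PC_le _ h)).2

/-- the frame -/
structure Fr (ℓ : Lbl.{u}) (z : G) (K : Subgroup G) : Prop where
  inv : IsoInv ℓ
  A : Amb z K
  F : KFacts ℓ ↥K ⟨z, A.zK⟩

namespace Fr

theorem Kz (H : Fr ℓ z K) {k : G} (hk : k ∈ K) : k * z = z * k := by
  have := ((H.F.cen ⟨z, H.A.zK⟩).mpr (Or.inr rfl)) ⟨k, hk⟩
  exact (congrArg Subtype.val this).symm

theorem zz (H : Fr ℓ z K) : z * z = 1 := congrArg Subtype.val H.F.cc

theorem z1 (H : Fr ℓ z K) : z ≠ 1 := fun h => H.F.c1 (Subtype.ext h)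

/-- `C(z) = K C(K)` -/
theorem mem_KR (H : Fr ℓ z K) {h : G} (hz : h * z = z * h) : ∃ k ∈ K, ∃ r, (∀ l ∈ K, r * l = l * r) ∧ h = k * r :=
  H.A.of_inn hz (H.F.inn _)

theorem perf_le (H : Fr ℓ z K) {Y : Subgroup G} (hY : ⁅Y, Y⁆ = Y) (hz : ∀ y ∈ Y, y * z = z * y) : Y ≤ K := by
  have h1 : Y ≤ KR K := fun y hy => H.mem_KR (hz y hy)
  calc Y = ⁅Y, Y⁆ := hY.symm
    _ ≤ ⁅KR K, KR K⁆ := commutator_mono h1 h1
    _ ≤ K := KR_commutator H.A

theorem cenK (H : Fr ℓ z K) {r : G} (hr : r ∈ K) (h : ∀ l ∈ K, r * l = l * r) : r = 1 ∨ r = z := by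
  rcases (H.F.cen ⟨r, hr⟩).mp (fun y => Subtype.ext (h y y.2)) with h | h
  · exact Or.inl (congrArg Subtype.val h)
  · exact Or.inr (congrArg Subtype.val h)

/-- the core of `C(z) ∩ C(kr)` is the core of `C_K(k)` -/
theorem P2_eq (H : Fr ℓ z K) (k : K) {r : G} (hr : ∀ l ∈ K, r * l = l * r) :
    P2 z (k * r) = (PCen k).map K.subtype := by
  rw [PC_map_subtype]
  apply le_antisymm
  · have hp : P2 z (k * r) ≤ K := H.perf_le (PC_perf _) (fun y hy => P2_z hy)
    apply le_PC _ (PC_perf _)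
    intro y hy
    have h1 := P2_e hy
    have h2 := hp hy
    refine ⟨⟨y, h2⟩, ?_, rfl⟩
    refine mem_centralizer_singleton_iff.mpr ?_
    apply Subtype.ext
    show y * (k : G) = k * y
    have h3 := hr y h2
    have h4 : y * k * r = k * y * r := by
      calc y * k * r = y * (k * r) := by group
        _ = k * (r * y) := by rw [h1]; group
        _ = k * y * r := by rw [h3]; group
    exact mul_right_cancel h4
  · apply PC_mono
    rintro _ ⟨y, hy, rfl⟩
    have h1 : (y : G) * k = k * y := congrArg Subtype.val (mem_centralizer_singleton_iff.mp hy)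
    refine mem_inf.mpr ⟨mem_centralizer_singleton_iff.mpr (H.Kz y.2), mem_centralizer_singleton_iff.mpr ?_⟩
    show (y : G) * (k * r) = k * r * y
    rw [← mul_assoc, h1, mul_assoc, ← hr y y.2, mul_assoc]

theorem P2_eq' (H : Fr ℓ z K) (k : K) : P2 z (k : G) = (PCen k).map K.subtype := by
  have := H.P2_eq k (r := 1) (fun l _ => by rw [one_mul, mul_one])
  rwa [mul_one] at this

/-- an involution of `C(z)` is in `K` or `v r` with `v² = z = r²` -/
theorem cases (H : Fr ℓ z K) {e : G} (he : e * e = 1) (hz : e * z = z * e) :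
    e ∈ K ∨ ∃ k r, k ∈ K ∧ (∀ l ∈ K, r * l = l * r) ∧ e = k * r ∧ k * k = z ∧ r * r = z := by
  obtain ⟨k, hk, r, hr, rfl⟩ := H.mem_KR hz
  have h1 : k * k * (r * r) = 1 := by
    calc k * k * (r * r) = k * (k * r) * r := by group
      _ = k * (r * k) * r := by rw [hr k hk]
      _ = 1 := by rw [← he]; group
  have h2 : k * k = (r * r)⁻¹ := eq_inv_of_mul_eq_one_left h1
  have h3 : ∀ l ∈ K, (r * r) * l = l * (r * r) := fun l hl => by
    rw [mul_assoc, hr l hl, ← mul_assoc, hr l hl, mul_assoc]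
  have h4 : k * k = 1 ∨ k * k = z := by
    refine H.cenK (K.mul_mem hk hk) ?_
    intro l hl
    rw [h2, inv_mul_eq_iff_eq_mul, ← mul_assoc, h3 l hl, mul_inv_cancel_right]
  rcases h4 with h4 | h4
  · left
    have h5 : r * r = 1 := by rwa [h4, one_mul] at h1
    rcases H.A.one r hr h5 with rfl | rfl
    · rwa [mul_one]
    · exact K.mul_mem hk H.A.zK
  · right
    refine ⟨k, r, hk, hr, rfl, h4, ?_⟩
    rw [h4] at h1
    calc r * r = (z * z) * (r * r) := by rw [H.zz, one_mul]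
      _ = z * (z * (r * r)) := by group
      _ = z := by rw [h1, mul_one]

theorem invL (H : Fr ℓ z K) {f : G} (hf : f ∈ K) (h2 : f * f = 1) (h1 : f ≠ 1) (hz : f ≠ z) :
    InvL (⟨z, H.A.zK⟩ : K) ⟨f, hf⟩ :=
  ⟨Subtype.ext h2, fun h => h1 (congrArg Subtype.val h), fun h => hz (congrArg Subtype.val h)⟩

/-- SWAP, `e = g z g⁻¹`, `e' = g⁻¹ z g`: the core of `C(z) ∩ C(e')` goes to the core of `C(z) ∩ C(e)`. -/
theorem swap (z g : G) : (P2 z (g⁻¹ * z * g)).map (MulAut.conj g).toMonoidHom = P2 z (g * z * g⁻¹) := by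
  rw [P2_conj]
  have : g * (g⁻¹ * z * g) * g⁻¹ = z := by group
  rw [this]
  show PC (centralizer {g * z * g⁻¹} ⊓ centralizer {z}) = PC (centralizer {z} ⊓ centralizer {g * z * g⁻¹})
  rw [inf_comm]

theorem comm' {z g : G} (hg : g * z * g⁻¹ * z = z * (g * z * g⁻¹)) : g⁻¹ * z * g * z = z * (g⁻¹ * z * g) := by
  calc g⁻¹ * z * g * z = g⁻¹ * (z * (g * z * g⁻¹)) * g := by group
    _ = g⁻¹ * (g * z * g⁻¹ * z) * g := by rw [hg]
    _ = z * (g⁻¹ * z * g) := by group

theorem ne' {z g : G} (hg : g * z * g⁻¹ ≠ z) : g⁻¹ * z * g ≠ z := by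
  intro h
  apply hg
  calc g * z * g⁻¹ = g * (g⁻¹ * z * g) * g⁻¹ := by rw [h]
    _ = z := by group

theorem sqc (H : Fr ℓ z K) (g : G) : g * z * g⁻¹ * (g * z * g⁻¹) = 1 := by
  calc g * z * g⁻¹ * (g * z * g⁻¹) = g * (z * z) * g⁻¹ := by group
    _ = 1 := by rw [H.zz]; group

theorem nec (H : Fr ℓ z K) (g : G) : g * z * g⁻¹ ≠ 1 := by
  intro h
  exact H.z1 (conj_eq_one_iff.mp h)

/-- if `e' = g⁻¹ z g` is in `K` then `e = g z g⁻¹` is in `K` -/
theorem mem_of_mem (H : Fr ℓ z K) {g : G} (hne : g⁻¹ * z * g ≠ z) (h : g⁻¹ * z * g ∈ K) : g * z * g⁻¹ ∈ K := by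
  have hsq : g⁻¹ * z * g * (g⁻¹ * z * g) = 1 := by
    have := H.sqc g⁻¹
    rwa [inv_inv] at this
  have hne1 : g⁻¹ * z * g ≠ 1 := by
    have := H.nec g⁻¹
    rwa [inv_inv] at this
  have h1 := H.F.mem _ (H.invL h hsq hne1 hne)
  have h2 : z ∈ P2 z (g⁻¹ * z * g) := by
    rw [H.P2_eq' ⟨g⁻¹ * z * g, h⟩]
    exact ⟨_, h1, rfl⟩
  have h3 : g * z * g⁻¹ ∈ P2 z (g * z * g⁻¹) := by
    rw [← swap]
    exact ⟨z, h2, rfl⟩
  exact H.perf_le (PC_perf _) (fun y hy => P2_z hy) h3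

/-- every conjugate of `z` commuting with `z` is in `K` -/
theorem mem_K (H : Fr ℓ z K) {g : G} (hg : g * z * g⁻¹ * z = z * (g * z * g⁻¹)) : g * z * g⁻¹ ∈ K := by
  by_contra hn
  have hne : g * z * g⁻¹ ≠ z := fun h => hn (by rw [h]; exact H.A.zK)
  have hn' : g⁻¹ * z * g ∉ K := fun h => hn (H.mem_of_mem (ne' hne) h)
  have hsq' : g⁻¹ * z * g * (g⁻¹ * z * g) = 1 := by
    have := H.sqc g⁻¹
    rwa [inv_inv] at this
  obtain ⟨v, r, hv, hr, he, hvv, hrr⟩ := (H.cases (H.sqc g) hg).resolve_left hn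
  obtain ⟨v', r', hv', hr', he', hvv', hrr'⟩ := (H.cases hsq' (comm' hg)).resolve_left hn'
  -- `s = g r' g⁻¹` centralises the core of `C(z) ∩ C(e)`, `s² = e`
  have hs : g * r' * g⁻¹ * (g * r' * g⁻¹) = g * z * g⁻¹ := by
    calc g * r' * g⁻¹ * (g * r' * g⁻¹) = g * (r' * r') * g⁻¹ := by group
      _ = g * z * g⁻¹ := by rw [hrr']
  have hsz : g * r' * g⁻¹ * z = z * (g * r' * g⁻¹) := by
    have h1 : r' * (g⁻¹ * z * g) = g⁻¹ * z * g * r' := by
      rw [he']
      calc r' * (v' * r') = (r' * v') * r' := by group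
        _ = v' * r' * r' := by rw [hr' v' hv']
    calc g * r' * g⁻¹ * z = g * (r' * (g⁻¹ * z * g)) * g⁻¹ := by group
      _ = g * (g⁻¹ * z * g * r') * g⁻¹ := by rw [h1]
      _ = z * (g * r' * g⁻¹) := by group
  have hsc : ∀ y ∈ P2 z (g * z * g⁻¹), g * r' * g⁻¹ * y = y * (g * r' * g⁻¹) := by
    intro y hy
    rw [← swap] at hy
    obtain ⟨x, hx, rfl⟩ := hy
    have hxK : x ∈ K := H.perf_le (PC_perf _) (fun y hy => P2_z hy) hx
    have := hr' x hxK
    show g * r' * g⁻¹ * (g * x * g⁻¹) = g * x * g⁻¹ * (g * r' * g⁻¹)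
    calc g * r' * g⁻¹ * (g * x * g⁻¹) = g * (r' * x) * g⁻¹ := by group
      _ = g * (x * r') * g⁻¹ := by rw [this]
      _ = g * x * g⁻¹ * (g * r' * g⁻¹) := by group
  obtain ⟨k, hk, t, ht, hkt⟩ := H.mem_KR hsz
  have hPle : P2 z (g * z * g⁻¹) ≤ K :=
    H.perf_le (PC_perf _) (fun y hy => P2_z hy)
  have hkc : ∀ y ∈ P2 z (g * z * g⁻¹), k * y = y * k := by
    intro y hy
    have h1 := hsc y hy
    rw [hkt] at h1
    have h2 := ht y (hPle hy)
    have h3 : k * y * t = y * k * t := by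
      calc k * y * t = k * (y * t) := by group
        _ = k * (t * y) := by rw [h2]
        _ = k * t * y := by group
        _ = y * k * t := by rw [h1]; group
    exact mul_right_cancel h3
  have hPeq : P2 z (g * z * g⁻¹) = (PCen (⟨v, hv⟩ : K)).map K.subtype := by
    rw [he]
    exact H.P2_eq ⟨v, hv⟩ hr
  have hsqk : k * k = 1 ∨ k * k = z := by
    rcases H.F.sq ⟨v, hv⟩ ⟨k, hk⟩ (Subtype.ext hvv) (by
      intro y hy
      apply Subtype.ext
      show k * (y : G) = y * k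
      apply hkc
      rw [hPeq]
      exact ⟨y, hy, rfl⟩) with h | h
    · exact Or.inl (congrArg Subtype.val h)
    · exact Or.inr (congrArg Subtype.val h)
  -- `v r = k² t²`
  have h1 : k * k * (t * t) = v * r := by
    rw [← he, ← hs, hkt]
    calc k * k * (t * t) = k * (k * t) * t := by group
      _ = k * (t * k) * t := by rw [ht k hk]
      _ = k * t * (k * t) := by group
  have h2 : (k * k)⁻¹ * v = t * t * r⁻¹ := by
    calc (k * k)⁻¹ * v = (k * k)⁻¹ * (v * r) * r⁻¹ := by group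
      _ = (k * k)⁻¹ * (k * k * (t * t)) * r⁻¹ := by rw [h1]
      _ = t * t * r⁻¹ := by group
  have h3 : ∀ l ∈ K, (k * k)⁻¹ * v * l = l * ((k * k)⁻¹ * v) := by
    intro l hl
    rw [h2]
    have e1 := ht l hl
    have e2 : r⁻¹ * l = l * r⁻¹ := by
      rw [inv_mul_eq_iff_eq_mul, ← mul_assoc, hr l hl, mul_inv_cancel_right]
    calc t * t * r⁻¹ * l = t * t * (r⁻¹ * l) := by group
      _ = t * (t * l) * r⁻¹ := by rw [e2]; group
      _ = t * (l * t) * r⁻¹ := by rw [e1]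
      _ = (t * l) * t * r⁻¹ := by group
      _ = (l * t) * t * r⁻¹ := by rw [e1]
      _ = l * (t * t * r⁻¹) := by group
  have h4 := H.cenK (K.mul_mem (K.inv_mem (K.mul_mem hk hk)) hv) h3
  have h5 : v = 1 ∨ v = z := by
    have h6 : v = k * k * ((k * k)⁻¹ * v) := by group
    rcases h4 with h4 | h4 <;> rcases hsqk with h7 | h7
    · left; rw [h6, h4, h7, one_mul]
    · right; rw [h6, h4, h7, mul_one]
    · right; rw [h6, h4, h7, one_mul]
    · left; rw [h6, h4, h7, H.zz]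
  rcases h5 with h5 | h5
  · rw [h5, one_mul] at hvv
    exact H.z1 hvv.symm
  · rw [h5, H.zz] at hvv
    exact H.z1 hvv.symm

/-- the label of a conjugate `e ≠ z` of `z` in `C(z)` is `ez` -/
theorem lab (H : Fr ℓ z K) {g : G} (hg : g * z * g⁻¹ * z = z * (g * z * g⁻¹)) (hne : g * z * g⁻¹ ≠ z) :
    Lab ℓ (P2 z (g * z * g⁻¹)) (g * z * g⁻¹ * z) := by
  have hK := H.mem_K hg
  have hg' := comm' hg
  have hK' : g⁻¹ * z * g ∈ K := by
    have := H.mem_K (g := g⁻¹) (by rwa [inv_inv])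
    rwa [inv_inv] at this
  have hsq' : g⁻¹ * z * g * (g⁻¹ * z * g) = 1 := by
    have := H.sqc g⁻¹
    rwa [inv_inv] at this
  have hne1' : g⁻¹ * z * g ≠ 1 := by
    have := H.nec g⁻¹
    rwa [inv_inv] at this
  have hI' := H.invL hK' hsq' hne1' (ne' hne)
  have hI := H.invL hK (H.sqc g) (H.nec g) hne
  have hinj : Function.Injective (MulAut.conj g).toMonoidHom := (MulAut.conj g).injective
  rcases H.F.lab_or _ hI' with h | h
  · -- label `e'`: goes to `z`
    exfalso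
    have h1 := h.map H.inv K.subtype K.subtype_injective
    rw [← H.P2_eq' ⟨g⁻¹ * z * g, hK'⟩] at h1
    have h2 := h1.map H.inv (MulAut.conj g).toMonoidHom hinj
    have h3 : Lab ℓ (P2 z (g * z * g⁻¹)) z := by
      have e1 : (MulAut.conj g).toMonoidHom (K.subtype ⟨g⁻¹ * z * g, hK'⟩) = z := by
        show g * (g⁻¹ * z * g) * g⁻¹ = z
        group
      rw [e1] at h2
      have e2 := swap z g
      rw [← e2]
      exact h2
    rw [H.P2_eq' ⟨g * z * g⁻¹, hK⟩] at h3
    exact H.F.lab_c _ hI (Lab.of_map H.inv K.subtype K.subtype_injective (x := ⟨z, H.A.zK⟩) h3)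
  · have h1 := h.map H.inv K.subtype K.subtype_injective
    rw [← H.P2_eq' ⟨g⁻¹ * z * g, hK'⟩] at h1
    have h2 := h1.map H.inv (MulAut.conj g).toMonoidHom hinj
    have e1 : (MulAut.conj g).toMonoidHom (K.subtype (⟨g⁻¹ * z * g, hK'⟩ * ⟨z, H.A.zK⟩)) = g * z * g⁻¹ * z := by
      show g * (g⁻¹ * z * g * z) * g⁻¹ = g * z * g⁻¹ * z
      calc g * (g⁻¹ * z * g * z) * g⁻¹ = z * (g * z * g⁻¹) := by group
        _ = g * z * g⁻¹ * z := hg.symm
    rw [e1] at h2
    rw [← swap z g]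
    exact h2

theorem labK (H : Fr ℓ z K) {g : G} (hg : g * z * g⁻¹ * z = z * (g * z * g⁻¹)) (hne : g * z * g⁻¹ ≠ z) :
    Lab ℓ (PCen (⟨g * z * g⁻¹, H.mem_K hg⟩ : K)) (⟨g * z * g⁻¹, H.mem_K hg⟩ * ⟨z, H.A.zK⟩) := by
  have h1 := H.lab hg hne
  rw [H.P2_eq' ⟨g * z * g⁻¹, H.mem_K hg⟩] at h1
  exact Lab.of_map H.inv K.subtype K.subtype_injective (x := ⟨g * z * g⁻¹, H.mem_K hg⟩ * ⟨z, H.A.zK⟩) h1

/-- `e` and `ez` are not both conjugate to `z` -/
theorem not_both (H : Fr ℓ z K) {g h : G} (hg : g * z * g⁻¹ * z = z * (g * z * g⁻¹)) (hne : g * z * g⁻¹ ≠ z)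
    (hh : h * z * h⁻¹ = g * z * g⁻¹ * z) : False := by
  have hg2 : h * z * h⁻¹ * z = z * (h * z * h⁻¹) := by
    rw [hh]
    calc g * z * g⁻¹ * z * z = z * (g * z * g⁻¹) * z := by rw [hg]
      _ = z * (g * z * g⁻¹ * z) := by group
  have hne2 : h * z * h⁻¹ ≠ z := by
    rw [hh]
    intro h1
    exact H.nec g (mul_eq_right.mp h1)
  have h1 := H.lab hg2 hne2
  have hK := H.mem_K hg
  have h2 : P2 z (h * z * h⁻¹) = P2 z (g * z * g⁻¹) := by
    rw [hh, H.P2_eq ⟨g * z * g⁻¹, hK⟩ (r := z) (fun l hl => (H.Kz hl).symm), H.P2_eq' ⟨g * z * g⁻¹, hK⟩]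
  rw [h2] at h1
  have h3 : h * z * h⁻¹ * z = g * z * g⁻¹ := by
    rw [hh, mul_assoc, H.zz, mul_one]
  rw [h3, H.P2_eq' ⟨g * z * g⁻¹, hK⟩] at h1
  have hI := H.invL hK (H.sqc g) (H.nec g) hne
  exact H.F.lab_not _ hI (Lab.of_map H.inv K.subtype K.subtype_injective (x := ⟨g * z * g⁻¹, hK⟩) h1) (H.labK hg hne)

/-- **(PF)**: if `x ≠ y` are commuting conjugates of `z` then `xy` is not conjugate to `z` -/
theorem pf (H : Fr ℓ z K) {x y : G} (hx : ∃ a, a * z * a⁻¹ = x) (hy : ∃ a, a * z * a⁻¹ = y)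
    (hw : ∃ a, a * z * a⁻¹ = x * y) (hc : x * y = y * x) (hne : x ≠ y) : False := by
  obtain ⟨a, rfl⟩ := hx
  obtain ⟨b, rfl⟩ := hy
  obtain ⟨d, hd⟩ := hw
  have e1 : a⁻¹ * b * z * (a⁻¹ * b)⁻¹ = a⁻¹ * (b * z * b⁻¹) * a := by group
  refine H.not_both (g := a⁻¹ * b) (h := a⁻¹ * d) ?_ ?_ ?_
  · rw [e1]
    calc a⁻¹ * (b * z * b⁻¹) * a * z = a⁻¹ * (b * z * b⁻¹ * (a * z * a⁻¹)) * a := by group
      _ = a⁻¹ * (a * z * a⁻¹ * (b * z * b⁻¹)) * a := by rw [hc]
      _ = z * (a⁻¹ * (b * z * b⁻¹) * a) := by group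
  · rw [e1]
    intro h
    apply hne
    calc a * z * a⁻¹ = a * (a⁻¹ * (b * z * b⁻¹) * a) * a⁻¹ := by rw [h]
      _ = b * z * b⁻¹ := by group
  · calc a⁻¹ * d * z * (a⁻¹ * d)⁻¹ = a⁻¹ * (d * z * d⁻¹) * a := by group
      _ = a⁻¹ * (a * z * a⁻¹ * (b * z * b⁻¹)) * a := by rw [hd]
      _ = a⁻¹ * (b * z * b⁻¹ * (a * z * a⁻¹)) * a := by rw [hc]
      _ = a⁻¹ * b * z * (a⁻¹ * b)⁻¹ * z := by group

/-- `z` commutes with no other conjugate -/
theorem isolated (H : Fr ℓ z K) (g : G) (hg : g * z * g⁻¹ * z = z * (g * z * g⁻¹)) : g * z * g⁻¹ = z := by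
  by_contra hne
  have hK := H.mem_K hg
  have hI := H.invL hK (H.sqc g) (H.nec g) hne
  have hl := H.labK hg hne
  have key : ∀ f : K, InvL (⟨z, H.A.zK⟩ : K) f → Lab ℓ (PCen f) (f * ⟨z, H.A.zK⟩) → ∃ a, a * z * a⁻¹ = (f : G) := by
    intro f hf hlf
    obtain ⟨k, hk⟩ := H.F.conj _ f hI hf hl hlf
    refine ⟨k * g, ?_⟩
    have := congrArg Subtype.val hk
    calc (k : G) * g * z * ((k : G) * g)⁻¹ = k * (g * z * g⁻¹) * (k : G)⁻¹ := by group
      _ = f := this
  obtain ⟨x, y, hx, hy, hxy, hc, hne', lx, ly, lxy⟩ := H.F.pf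
  exact H.pf (key x hx lx) (key y hy ly) (key (x * y) hxy lxy) (congrArg Subtype.val hc)
    (fun h => hne' (Subtype.ext h))

end Fr

/-- **The kill.** -/
theorem kill [Finite G] [IsSimpleGroup G] (hna : ¬ IsMulCommutative G) (hℓ : IsoInv ℓ) (A : Amb z K)
    (F : KFacts ℓ ↥K ⟨z, A.zK⟩) : False := by
  have H : Fr ℓ z K := ⟨hℓ, A, F⟩
  have h2 : orderOf z = 2 := orderOf_eq_prime (by rw [pow_two]; exact H.zz) H.z1
  obtain ⟨g, h1, h2⟩ := StandardComponent.AltFinal.exists_conj hna h2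
  exact h1 (H.isolated g h2)

end Cfsg.Agent.OddHalf.D9.Ru.Kill

end

-- merged: Cfsg.Agent.OddHalf.D9.Ru.XF
section

/-!
# D9, row `2.Ru`: the label, from facts on the centraliser of a 2-central involution of `Ru`

`XF z a P1 R E`: facts on the centraliser of the involution `z` of `X = Ru`: `P1` is its last derived group (of index
at most 2), `R = O_2(P1)`, `E` is elementary abelian of order 32, `a ∈ E`.

In a perfect double cover `π : L → X` with kernel `{1, c}`, for an involution `e` over `z`: `N` is the largest perfect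
subgroup of the preimage of `C(z)`; it contains `c` (transfer), centralises `e`, and `e` is the generator of
`[[O_2(N), O_2(N)], O_2(N)]`.
-/

set_option autoImplicit false
set_option linter.dupNamespace false

namespace Cfsg.Agent.OddHalf.D9.Ru.XF

open Subgroup Cfsg.Agent.KFacts.MulTwo Cfsg.Agent.KFacts.MulDef Cfsg.Agent.OddHalf.D9.M12Glue
  Cfsg.Agent.OddHalf.D9.ExTrick Cfsg.Agent.OddHalf.D9.Ru.Inn Cfsg.Agent.OddHalf.D9.Ru.Label
  Cfsg.Agent.OddHalf.D9.Ru.Kill

open scoped commutatorElement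

universe u

/-- the facts on the centraliser of `z` in `X` -/
structure XF {X : Type*} [Group X] (z a : X) (P1 R E : Subgroup X) : Prop where
  odd : ¬ 2 ∣ (centralizer {z}).index
  P1_le : P1 ≤ centralizer {z}
  P1_perf : ⁅P1, P1⁆ = P1
  cover : ∃ h ∈ centralizer {z}, IsConj z h ∧ IsConj z (h * z) ∧ ∀ x ∈ centralizer {z}, x ∈ P1 ∨ h⁻¹ * x ∈ P1
  R_le : R ≤ P1
  R_nor : ∀ g ∈ P1, ∀ r ∈ R, g * r * g⁻¹ ∈ R
  R_two : IsPGroup 2 R
  R_max : ∀ Q ≤ P1, IsPGroup 2 Q → (∀ g ∈ P1, ∀ q ∈ Q, g * q * g⁻¹ ∈ Q) → Q ≤ R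
  RR : ⁅R, R⁆ ≤ E
  RE : ∀ r ∈ R, ∀ x ∈ E, r * x * r⁻¹ * x⁻¹ = 1 ∨ r * x * r⁻¹ * x⁻¹ = z
  cl : ∀ x ∈ E, x = 1 ∨ x = z ∨ ∃ g ∈ P1, g * a * g⁻¹ = x
  gam : ∃ r1 ∈ R, ∃ r2 ∈ R, ∃ r3 ∈ R, ⁅⁅r1, r2⁆, r3⁆ = z

/-- commutators of elements `u n`, `v m` with `u v = v u` -/
theorem comm_mem {G : Type*} [Group G] {C N : Subgroup G} (nor : ∀ g ∈ C, ∀ n ∈ N, g * n * g⁻¹ ∈ N) {u v n m : G}
    (hu : u ∈ C) (hv : v ∈ C) (uv : u * v = v * u) (hn : n ∈ N) (hm : m ∈ N) : ⁅u * n, v * m⁆ ∈ N := by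
  have h1 : ⁅u * n, v * m⁆ = (u * n * u⁻¹) * ((u * v) * (m * n⁻¹) * (u * v)⁻¹) * (v * m⁻¹ * v⁻¹) := by
    rw [commutatorElement_def]
    calc u * n * (v * m) * (u * n)⁻¹ * (v * m)⁻¹ = (u * n * u⁻¹) * ((u * v) * (m * n⁻¹) * (u * v)⁻¹) *
          ((u * v) * u⁻¹ * m⁻¹ * v⁻¹) := by group
      _ = _ := by rw [uv]; group
  rw [h1]
  exact mul_mem (mul_mem (nor _ hu _ hn) (nor _ (mul_mem hu hv) _ (mul_mem hm (inv_mem hn))))
    (nor _ hv _ (inv_mem hm))

namespace XF

variable {X : Type*} [Group X] {z a : X} {P1 R E : Subgroup X}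

theorem nor (F : XF z a P1 R E) : ∀ g ∈ centralizer {z}, ∀ p ∈ P1, g * p * g⁻¹ ∈ P1 := by
  obtain ⟨h, hh, -, -, hc⟩ := F.cover
  have key : ∀ p ∈ P1, h * p * h⁻¹ ∈ P1 := by
    intro p hp
    rcases hc _ (mul_mem (mul_mem hh (F.P1_le hp)) (inv_mem hh)) with h1 | h1
    · exact h1
    · have h2 : h⁻¹ ∈ P1 := by
        have := mul_mem (inv_mem hp) h1
        have e : p⁻¹ * (h⁻¹ * (h * p * h⁻¹)) = h⁻¹ := by group
        rwa [e] at this
      exact mul_mem (mul_mem ((inv_mem_iff).1 h2) hp) h2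
  intro g hg p hp
  rcases hc g hg with h1 | h1
  · exact mul_mem (mul_mem h1 hp) (inv_mem h1)
  · have e : g * p * g⁻¹ = h * ((h⁻¹ * g) * p * (h⁻¹ * g)⁻¹) * h⁻¹ := by group
    rw [e]
    exact key _ (mul_mem (mul_mem h1 hp) (inv_mem h1))

theorem comm_le (F : XF z a P1 R E) : ⁅centralizer {z}, centralizer {z}⁆ ≤ P1 := by
  obtain ⟨h, hh, -, -, hc⟩ := F.cover
  have key : ∀ x ∈ centralizer {z}, ∃ u, (u = 1 ∨ u = h) ∧ ∃ n ∈ P1, x = u * n := by
    intro x hx
    rcases hc x hx with h1 | h1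
    · exact ⟨1, Or.inl rfl, x, h1, (one_mul x).symm⟩
    · exact ⟨h, Or.inr rfl, _, h1, by group⟩
  rw [commutator_le]
  intro x hx y hy
  obtain ⟨u, hu, n, hn, rfl⟩ := key x hx
  obtain ⟨v, hv, m, hm, rfl⟩ := key y hy
  have hu' : u ∈ centralizer {z} := by rcases hu with rfl | rfl; exacts [one_mem _, hh]
  have hv' : v ∈ centralizer {z} := by rcases hv with rfl | rfl; exacts [one_mem _, hh]
  refine comm_mem F.nor hu' hv' ?_ hn hm
  rcases hu with rfl | rfl <;> rcases hv with rfl | rfl <;> simp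

end XF

/-! ### the double cover -/

/-- the setting -/
structure LC {L X : Type*} [Group L] [Group X] (π : L →* X) (c e a' : L) (z a : X) (P1 R E : Subgroup X) : Prop where
  hd : Dbl π c
  F : XF z a P1 R E
  ee : e * e = 1
  pe : π e = z
  z1 : z ≠ 1
  pa : π a' = a
  ea : IsConj e a'
  eae : IsConj e (a' * e)
  two : ∀ x, IsConj z (π x) → x * x = 1

namespace LC

variable {L X : Type*} [Group L] [Group X] {π : L →* X} {c e a' : L} {z a : X} {P1 R E : Subgroup X}

/-- the preimage of `C(z)` -/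
abbrev Pt (π : L →* X) (z : X) : Subgroup L := (centralizer {z}).comap π

/-- its largest perfect subgroup -/
abbrev N (π : L →* X) (z : X) : Subgroup L := PC (Pt π z)

theorem cs {L X : Type*} [Group L] [Group X] {π : L →* X} {c : L} (hd : Dbl π c) {s : L} (h : s = 1 ∨ s = c) (x : L) :
    s * x = x * s := by
  rcases h with rfl | rfl
  · rw [one_mul, mul_one]
  · exact hd.cen x

theorem N_nor : ∀ g ∈ Pt π z, ∀ n ∈ N π z, g * n * g⁻¹ ∈ N π z := by
  intro g hg n hn
  have h1 : (Pt π z).map (MulAut.conj g).toMonoidHom = Pt π z := by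
    apply le_antisymm
    · rintro _ ⟨x, hx, rfl⟩
      exact mul_mem (mul_mem hg hx) (inv_mem hg)
    · intro x hx
      refine ⟨g⁻¹ * x * g, mul_mem (mul_mem (inv_mem hg) hx) hg, ?_⟩
      show g * (g⁻¹ * x * g) * g⁻¹ = x
      group
  have h2 := PC_map_conj (Pt π z) g
  rw [h1] at h2
  show g * n * g⁻¹ ∈ PC (Pt π z)
  rw [← h2]
  exact ⟨n, hn, rfl⟩

/-- the perfect lift -/
theorem perf_lift (hd : Dbl π c) {A : Subgroup X} (hA : ⁅A, A⁆ = A) :
    ⁅⁅A.comap π, A.comap π⁆, ⁅A.comap π, A.comap π⁆⁆ = ⁅A.comap π, A.comap π⁆ ∧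
      ∀ a ∈ A, ∃ x ∈ ⁅A.comap π, A.comap π⁆, π x = a := by
  have h1 : ∀ a ∈ A, ∃ x ∈ ⁅A.comap π, A.comap π⁆, π x = a := by
    intro a ha
    have h2 : (⁅A.comap π, A.comap π⁆).map π = A := by
      rw [Subgroup.map_commutator, Subgroup.map_comap_eq_self_of_surjective hd.surj, hA]
    have h3 : a ∈ (⁅A.comap π, A.comap π⁆).map π := by rw [h2]; exact ha
    exact h3
  have hle : ⁅A.comap π, A.comap π⁆ ≤ A.comap π := by
    rw [commutator_le]
    intro a ha b hb
    rw [commutatorElement_def]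
    exact mul_mem (mul_mem (mul_mem ha hb) (inv_mem ha)) (inv_mem hb)
  refine ⟨le_antisymm (commutator_mono hle hle) ?_, h1⟩
  rw [commutator_le]
  intro a ha b hb
  obtain ⟨a', ha', ha''⟩ := h1 _ (Subgroup.mem_comap.mp ha)
  obtain ⟨b', hb', hb''⟩ := h1 _ (Subgroup.mem_comap.mp hb)
  have e1 : ∃ u : L, (u = 1 ∨ u = c) ∧ a = u * a' := by
    rcases eq_or hd ha''.symm with h | h
    · exact ⟨1, Or.inl rfl, by rw [one_mul]; exact h⟩
    · exact ⟨c, Or.inr rfl, h⟩
  have e2 : ∃ u : L, (u = 1 ∨ u = c) ∧ b = u * b' := by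
    rcases eq_or hd hb''.symm with h | h
    · exact ⟨1, Or.inl rfl, by rw [one_mul]; exact h⟩
    · exact ⟨c, Or.inr rfl, h⟩
  obtain ⟨u, hu, rfl⟩ := e1
  obtain ⟨v, hv, rfl⟩ := e2
  have h3 : ⁅u * a', v * b'⁆ = ⁅a', b'⁆ := by
    rw [commutatorElement_def, commutatorElement_def]
    have hu' := cs hd hu
    have hv' := cs hd hv
    calc u * a' * (v * b') * (u * a')⁻¹ * (v * b')⁻¹ = (u * (a' * v * b' * a'⁻¹)) * u⁻¹ * b'⁻¹ * v⁻¹ := by group
      _ = ((a' * v * b' * a'⁻¹) * u) * u⁻¹ * b'⁻¹ * v⁻¹ := by rw [hu']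
      _ = a' * (v * (b' * a'⁻¹ * b'⁻¹)) * v⁻¹ := by group
      _ = a' * ((b' * a'⁻¹ * b'⁻¹) * v) * v⁻¹ := by rw [hv']
      _ = _ := by group
  rw [h3]
  exact commutator_mem_commutator ha' hb'

/-- the elements over `P1` are in `N` or `c N` -/
theorem N_surj (H : LC π c e a' z a P1 R E) {x : L} (hx : π x ∈ P1) : x ∈ N π z ∨ c * x ∈ N π z := by
  obtain ⟨h1, h2⟩ := perf_lift H.hd H.F.P1_perf
  obtain ⟨y, hy, hyx⟩ := h2 _ hx
  have h3 : ⁅P1.comap π, P1.comap π⁆ ≤ Pt π z := by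
    rw [commutator_le]
    intro a ha b hb
    rw [commutatorElement_def]
    have ha' : a ∈ Pt π z := H.F.P1_le ha
    have hb' : b ∈ Pt π z := H.F.P1_le hb
    exact mul_mem (mul_mem (mul_mem ha' hb') (inv_mem ha')) (inv_mem hb')
  have h4 : y ∈ N π z := le_PC h3 h1 hy
  rcases eq_or H.hd hyx with h | h
  · left; rwa [← h]
  · right; rwa [← h]

theorem exists_N (H : LC π c e a' z a P1 R E) {p : X} (hp : p ∈ P1) : ∃ x ∈ N π z, π x = p := by
  obtain ⟨x, rfl⟩ := H.hd.surj p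
  rcases H.N_surj hp with h | h
  · exact ⟨x, h, rfl⟩
  · exact ⟨_, h, by rw [map_mul, pc H.hd, one_mul]⟩

theorem N_le (H : LC π c e a' z a P1 R E) {x : L} (hx : x ∈ N π z) : π x ∈ P1 := by
  have h1 : N π z ≤ P1.comap π := by
    have h2 : ⁅N π z, N π z⁆ = N π z := PC_perf _
    rw [← h2, commutator_le]
    intro a ha b hb
    show π ⁅a, b⁆ ∈ P1
    rw [map_commutatorElement]
    exact H.F.comm_le (commutator_mem_commutator (show π a ∈ centralizer {z} from PC_le (Pt π z) ha)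
      (show π b ∈ centralizer {z} from PC_le (Pt π z) hb))
  exact h1 hx

theorem cc (H : LC π c e a' z a P1 R E) : c * c = 1 := H.hd.sq

/-- (MEM) -/
theorem c_mem [Finite L] (H : LC π c e a' z a P1 R E) : c ∈ N π z := by
  obtain ⟨h, hh, -, -, hc⟩ := H.F.cover
  obtain ⟨h', rfl⟩ := H.hd.surj h
  have hcP : c ∈ Pt π z := by
    show π c ∈ centralizer {z}
    rw [pc H.hd]
    exact one_mem _
  have hodd : ¬ 2 ∣ (Pt π z).index := by
    rw [index_comap_of_surjective _ H.hd.surj]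
    exact H.F.odd
  have h1 := H.hd.toCtr.hom_eq_one hcP hodd (Abelianization.of (G := Pt π z))
  have h2 : (⟨c, hcP⟩ : Pt π z) ∈ commutator (Pt π z) := by
    rw [← Abelianization.ker_of]
    exact h1
  have h3 : c ∈ ⁅Pt π z, Pt π z⁆ := by
    have h4 : ((commutator (Pt π z)).map (Pt π z).subtype) = ⁅Pt π z, Pt π z⁆ := by
      rw [_root_.commutator_def, map_commutator, ← MonoidHom.range_eq_map, range_subtype]
    rw [← h4]
    exact ⟨_, h2, rfl⟩
  have key : ∀ x ∈ Pt π z, ∃ u, (u = 1 ∨ u = c) ∧ ∃ v, (v = 1 ∨ v = h') ∧ ∃ n ∈ N π z, x = u * v * n := by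
    intro x hx
    have h5 : ∀ y, π y ∈ P1 → ∃ u, (u = 1 ∨ u = c) ∧ ∃ n ∈ N π z, y = u * n := by
      intro y hy
      rcases H.N_surj hy with h6 | h6
      · exact ⟨1, Or.inl rfl, y, h6, (one_mul y).symm⟩
      · exact ⟨c, Or.inr rfl, _, h6, by rw [← mul_assoc, H.cc, one_mul]⟩
    rcases hc _ hx with h6 | h6
    · obtain ⟨u, hu, n, hn, rfl⟩ := h5 x h6
      exact ⟨u, hu, 1, Or.inl rfl, n, hn, by rw [mul_one]⟩
    · rw [← map_inv, ← map_mul] at h6
      obtain ⟨u, hu, n, hn, hy⟩ := h5 _ h6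
      refine ⟨u, hu, h', Or.inr rfl, n, hn, ?_⟩
      rw [cs H.hd hu, mul_assoc, ← hy]
      group
  have h7 : ⁅Pt π z, Pt π z⁆ ≤ N π z := by
    rw [commutator_le]
    intro x hx y hy
    obtain ⟨u, hu, v, hv, n, hn, rfl⟩ := key x hx
    obtain ⟨u', hu', v', hv', m, hm, rfl⟩ := key y hy
    have m1 : ∀ u : L, (u = 1 ∨ u = c) → u ∈ Pt π z := by
      rintro _ (rfl | rfl)
      exacts [one_mem _, hcP]
    have m2 : ∀ v : L, (v = 1 ∨ v = h') → v ∈ Pt π z := by
      rintro _ (rfl | rfl)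
      exacts [one_mem _, hh]
    refine comm_mem N_nor (mul_mem (m1 _ hu) (m2 _ hv)) (mul_mem (m1 _ hu') (m2 _ hv')) ?_ hn hm
    have hv2 : v * v' = v' * v := by
      rcases hv with rfl | rfl <;> rcases hv' with rfl | rfl <;> simp
    calc u * v * (u' * v') = u * (v * u') * v' := by group
      _ = u * (u' * v) * v' := by rw [cs H.hd hu']
      _ = (u * u') * (v * v') := by group
      _ = (u' * u) * (v' * v) := by rw [cs H.hd hu, hv2]
      _ = u' * (u * v') * v := by group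
      _ = u' * (v' * u) * v := by rw [cs H.hd hu]
      _ = _ := by group
  exact h7 h3

/-- `N` centralises `e` -/
theorem N_e (H : LC π c e a' z a P1 R E) {n : L} (hn : n ∈ N π z) : n * e = e * n := by
  have h1 : N π z ≤ centralizer {e} := by
    have h2 : ⁅N π z, N π z⁆ = N π z := PC_perf _
    rw [← h2, commutator_le]
    have key : ∀ x ∈ N π z, ∃ s, (s = 1 ∨ s = c) ∧ e * x * e⁻¹ = s * x := by
      intro x hx
      have h3 : π (e * x * e⁻¹) = π x := by
        have h4 : π x * z = z * π x :=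
          mem_centralizer_singleton_iff.1 (show π x ∈ centralizer {z} from PC_le (Pt π z) hx)
        rw [map_mul, map_mul, map_inv, H.pe, ← h4, mul_inv_cancel_right]
      rcases eq_or H.hd h3 with h | h
      · exact ⟨1, Or.inl rfl, by rw [one_mul]; exact h⟩
      · exact ⟨c, Or.inr rfl, h⟩
    intro x hx y hy
    obtain ⟨s, hs, h3⟩ := key x hx
    obtain ⟨t, ht, h4⟩ := key y hy
    rw [mem_centralizer_singleton_iff]
    have hs' := cs H.hd hs
    have ht' := cs H.hd ht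
    have h5 : e * ⁅x, y⁆ * e⁻¹ = ⁅x, y⁆ := by
      have e1 : e * ⁅x, y⁆ * e⁻¹ = ⁅e * x * e⁻¹, e * y * e⁻¹⁆ := by
        rw [commutatorElement_def, commutatorElement_def]; group
      rw [e1, h3, h4, commutatorElement_def, commutatorElement_def]
      calc s * x * (t * y) * (s * x)⁻¹ * (t * y)⁻¹ = (s * (x * t * y * x⁻¹)) * s⁻¹ * y⁻¹ * t⁻¹ := by group
        _ = ((x * t * y * x⁻¹) * s) * s⁻¹ * y⁻¹ * t⁻¹ := by rw [hs']
        _ = x * (t * (y * x⁻¹ * y⁻¹)) * t⁻¹ := by group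
        _ = x * ((y * x⁻¹ * y⁻¹) * t) * t⁻¹ := by rw [ht']
        _ = _ := by group
    exact (mul_inv_eq_iff_eq_mul.1 h5).symm
  exact mem_centralizer_singleton_iff.1 (h1 hn)

theorem cen_le (H : LC π c e a' z a P1 R E) : centralizer {e} ≤ Pt π z := by
  intro x hx
  have h1 := mem_centralizer_singleton_iff.1 hx
  show π x ∈ centralizer {z}
  rw [mem_centralizer_singleton_iff, ← H.pe, ← map_mul, h1, map_mul]

theorem PCen_e (H : LC π c e a' z a P1 R E) : PCen e = N π z :=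
  le_antisymm (PC_mono H.cen_le) (le_PC (fun _ hn => mem_centralizer_singleton_iff.2 (H.N_e hn)) (PC_perf _))

theorem PCen_ec (H : LC π c e a' z a P1 R E) : PCen (e * c) = N π z := by
  rw [← H.PCen_e]
  show PC _ = PC _
  congr 1
  ext x
  rw [mem_centralizer_singleton_iff, mem_centralizer_singleton_iff]
  constructor
  · intro h
    have h1 : x * e * c = e * x * c := by
      calc x * e * c = x * (e * c) := by group
        _ = e * (c * x) := by rw [h]; group
        _ = e * x * c := by rw [H.hd.cen]; group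
    exact mul_right_cancel h1
  · intro h
    calc x * (e * c) = x * e * c := by group
      _ = e * (x * c) := by rw [h]; group
      _ = e * c * x := by rw [← H.hd.cen]; group

/-- (N1) -/
theorem not_conj (H : LC π c e a' z a P1 R E) : ¬ IsConj e (e * c) := by
  intro h0
  obtain ⟨g, hg⟩ := isConj_iff.1 h0
  have hgP : π g ∈ centralizer {z} := by
    rw [mem_centralizer_singleton_iff]
    have := congrArg π hg
    rw [map_mul, map_mul, map_mul, pc H.hd, mul_one, map_inv, H.pe] at this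
    exact mul_inv_eq_iff_eq_mul.1 this
  obtain ⟨h, hh, hz, hhz, hc⟩ := H.F.cover
  obtain ⟨h', rfl⟩ := H.hd.surj h
  have key : ∀ y, π y ∈ P1 → y * e = e * y := by
    intro y hy
    rcases H.N_surj hy with h1 | h1
    · exact H.N_e h1
    · have h2 := H.N_e h1
      have h3 : c * (y * e) = c * (e * y) := by
        calc c * (y * e) = c * y * e := by group
          _ = e * (c * y) := h2
          _ = (e * c) * y := by group
          _ = (c * e) * y := by rw [H.hd.cen]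
          _ = _ := by group
      exact mul_left_cancel h3
  have hcomm : g * e = e * g := by
    rcases hc _ hgP with h1 | h1
    · exact key g h1
    · rw [← map_inv, ← map_mul] at h1
      have h2 := key _ h1
      have h3 : h' * h' = 1 := H.two _ hz
      have h4 : h' * e * (h' * e) = 1 := H.two _ (by rw [map_mul, H.pe]; exact hhz)
      have h5 : h' * e = e * h' := by
        have h6 : h'⁻¹ = h' := inv_eq_of_mul_eq_one_left h3
        have h7 : e⁻¹ = e := inv_eq_of_mul_eq_one_left H.ee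
        calc h' * e = (h' * e)⁻¹ := (inv_eq_of_mul_eq_one_left h4).symm
          _ = e⁻¹ * h'⁻¹ := by group
          _ = e * h' := by rw [h6, h7]
      calc g * e = h' * (h'⁻¹ * g * e) := by group
        _ = h' * (e * (h'⁻¹ * g)) := by rw [h2]
        _ = (h' * e) * (h'⁻¹ * g) := by group
        _ = (e * h') * (h'⁻¹ * g) := by rw [h5]
        _ = _ := by group
  rw [hcomm, mul_inv_cancel_right] at hg
  exact H.hd.ne (mul_eq_left.1 hg.symm)

theorem not_conj' (H : LC π c e a' z a P1 R E) {x y : L} (hx : IsConj e x) (hy : IsConj e (c * y)) :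
    ¬ IsConj x y := by
  intro h
  apply H.not_conj
  -- `e ~ x ~ y` and `c y ~ e`, so `e ~ y ~ c e`
  obtain ⟨g, hg⟩ := isConj_iff.1 (hx.trans h)
  have h1 : IsConj (e * c) (c * y) := by
    rw [isConj_iff]
    refine ⟨g, ?_⟩
    rw [← hg]
    calc g * (e * c) * g⁻¹ = g * e * (c * g⁻¹) := by group
      _ = g * e * (g⁻¹ * c) := by rw [H.hd.cen]
      _ = (g * e * g⁻¹) * c := by group
      _ = _ := (H.hd.cen _).symm
  exact hy.trans h1.symm

end LC

end Cfsg.Agent.OddHalf.D9.Ru.XF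

end

-- merged: Cfsg.Agent.OddHalf.D9.Ru.XfRes
section

/-!
# D9, row `2.Ru`: the facts `XF` on `RuOrder.H`
-/

set_option autoImplicit false

namespace Cfsg.Agent.OddHalf.D9.Ru.XfRes

open Subgroup Cfsg.Agent.KFacts.MulTwo Cfsg.Agent.KFacts.MulDef Cfsg.Agent.OddHalf.D9.Ru.XLevel
  Cfsg.Agent.SporadicB Cfsg.Agent.RuD.Letters

/-- the facts on the centraliser of `S²` -/
theorem xf : Cfsg.Agent.OddHalf.D9.Ru.XF.XF (S * S) (F * (S * S) * F⁻¹) XDef.P1 XR.R XR.E where
  odd := XCover.odd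
  P1_le := XCover.P1_le
  P1_perf := XCover.P1_perf
  cover := XCover.cover
  R_le := XR.R_le
  R_nor := XR.R_nor
  R_two := XR.R_two
  R_max := XR.R_max
  RR := XR.RR
  RE := XR.RE
  cl := XR.cl
  gam := XR.gam

theorem exists_xf : ∃ P1 R E : Subgroup RuOrder.H,
    Cfsg.Agent.OddHalf.D9.Ru.XF.XF (S * S) (F * (S * S) * F⁻¹) P1 R E := ⟨_, _, _, xf⟩

/-- the lifts of `T` have square `c` -/
theorem tau {L : Type*} [Group L] [Finite L] {π : L →* RuOrder.H} {c : L} (hd : Dbl π c) {x : L}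
    (h : IsConj T (π x)) : x * x = c :=
  Cfsg.Agent.KFacts.RuDbl.Main.badB hd (isConj_T.trans h)

end Cfsg.Agent.OddHalf.D9.Ru.XfRes

end
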